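import Groth.Agent.PBC51.Van.ProperGood
import Groth.Agent.EtLim45.StalkRpush
import Groth.Agent.Cons51.StalkExt

/-!
Proper base change for torsion sheaves in every degree, and cohomology of geometric fibres.
-/

set_option autoImplicit false
set_option backward.isDefEq.respectTransparency.types false
set_option linter.unusedSectionVars false
universe u

open CategoryTheory CategoryTheory.Limits AlgebraicGeometry Opposite
open Groth.Agent.Unr55.EtSh

namespace Groth.Agent.PBC51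

variable {X Y X' Y' : Scheme.{u}}

section

variable (f : X ⟶ Y) (g : Y' ⟶ Y) (f' : X' ⟶ Y') (g' : X' ⟶ X)

/-- Degree zero base change as an isomorphism of functors. -/
noncomputable def bc0Iso' [IsProper f] (h : IsPullback g' f' f g) :
    EtCoh.push f ⋙ EtCoh.pull g ≅ EtCoh.pull g' ⋙ EtCoh.push f' :=
  NatIso.ofComponents
    (fun F => @asIso _ _ _ _ (EtCoh.baseChange0 f g f' g' h.w F)
      (Cons51.isIso_baseChange0_proper f g f' g' h F))
    (fun a => Van.baseChange0_nat f g f' g' h.w a)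

/-- The connecting map identifies a higher direct image with a cokernel. -/
theorem nonempty_iso_cokernel (h : X ⟶ Y) {S : ShortComplex (EtCoh.Ab X)} (hS : S.ShortExact) (q : ℕ)
    (hz : IsZero ((EtCoh.Rpush h (q + 1)).obj S.X₂)) :
    Nonempty ((EtCoh.Rpush h (q + 1)).obj S.X₁ ≅ cokernel ((EtCoh.Rpush h q).map S.g)) := by
  have : PreservesLimitsOfSize.{0, 0} (EtCoh.push h) := (EtCoh.pullPushAdj h).rightAdjoint_preservesLimits
  obtain ⟨Δ⟩ := RD97.nonempty_derivedLES (EtCoh.push h)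
  let d : (EtCoh.Rpush h q).obj S.X₃ ⟶ (EtCoh.Rpush h (q + 1)).obj S.X₁ := Δ.δ S hS q (q + 1) rfl
  have hd : Epi d := (Δ.exact₁ S hS q (q + 1) rfl).epi_f (hz.eq_of_tgt _ _)
  let T := ShortComplex.mk ((EtCoh.Rpush h q).map S.g) d (Δ.comp_δ S hS q (q + 1) rfl)
  have hT : T.Exact := Δ.exact₃ S hS q (q + 1) rfl
  have : Epi T.g := hd
  exact ⟨hT.gIsCokernel.coconePointUniqueUpToIso (colimit.isColimit (parallelPair ((EtCoh.Rpush h q).map S.g) 0))⟩

/-- When the middle term is acyclic in two degrees the connecting map is an isomorphism. -/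
theorem nonempty_iso_shift (h : X ⟶ Y) {S : ShortComplex (EtCoh.Ab X)} (hS : S.ShortExact) (q : ℕ)
    (hz₀ : IsZero ((EtCoh.Rpush h q).obj S.X₂)) (hz : IsZero ((EtCoh.Rpush h (q + 1)).obj S.X₂)) :
    Nonempty ((EtCoh.Rpush h (q + 1)).obj S.X₁ ≅ (EtCoh.Rpush h q).obj S.X₃) := by
  obtain ⟨e⟩ := nonempty_iso_cokernel h hS q hz
  exact ⟨e ≪≫ cokernelIsoOfEq (hz₀.eq_of_src _ 0) ≪≫ cokernelZeroIsoTarget⟩

/-- Base change in degree one. -/
theorem nonempty_bc_one [IsProper f] (h : IsPullback g' f' f g) {S : ShortComplex (EtCoh.Ab X)}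
    (hS : S.ShortExact) (hT : EtCoh.IsTorsion S.X₂) (hq : QAcyclic S.X₂) :
    Nonempty ((EtCoh.pull g).obj ((EtCoh.Rpush f 1).obj S.X₁) ≅
      (EtCoh.Rpush f' 1).obj ((EtCoh.pull g').obj S.X₁)) := by
  have : IsProper f' := MorphismProperty.of_isPullback h inferInstance
  have hS' := EtCore45.shortExact_pull' g' hS
  obtain ⟨e⟩ := nonempty_iso_cokernel f hS 0 (isZero_Rpush_of_qAcyclic f 0 _ hq)
  obtain ⟨e'⟩ := nonempty_iso_cokernel f' hS' 0 ((Van.good_of_isProper f).isZero_Rpush hT hq h 0)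
  have : PreservesLimitsOfSize.{0, 0} (EtCoh.push f) := (EtCoh.pullPushAdj f).rightAdjoint_preservesLimits
  have : PreservesLimitsOfSize.{0, 0} (EtCoh.push f') := (EtCoh.pullPushAdj f').rightAdjoint_preservesLimits
  let η : EtCoh.Rpush f 0 ⋙ EtCoh.pull g ≅ EtCoh.pull g' ⋙ EtCoh.Rpush f' 0 :=
    Functor.isoWhiskerRight (EtCoh.push f).rightDerivedZeroIsoSelf _ ≪≫ bc0Iso' f g f' g' h ≪≫
      Functor.isoWhiskerLeft _ (EtCoh.push f').rightDerivedZeroIsoSelf.symm
  exact ⟨(EtCoh.pull g).mapIso e ≪≫ PreservesCokernel.iso (EtCoh.pull g) ((EtCoh.Rpush f 0).map S.g) ≪≫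
    cokernel.mapIso _ _ (η.app S.X₂) (η.app S.X₃) (η.hom.naturality S.g) ≪≫ e'.symm⟩

/-- Base change in all degrees. -/
theorem nonempty_bc [IsProper f] (h : IsPullback g' f' f g) :
    ∀ (q : ℕ) (F : EtCoh.Ab X), EtCoh.IsTorsion F →
      Nonempty ((EtCoh.pull g).obj ((EtCoh.Rpush f q).obj F) ≅
        (EtCoh.Rpush f' q).obj ((EtCoh.pull g').obj F)) := by
  have : IsProper f' := MorphismProperty.of_isPullback h inferInstance
  have : PreservesLimitsOfSize.{0, 0} (EtCoh.push f) := (EtCoh.pullPushAdj f).rightAdjoint_preservesLimits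
  have : PreservesLimitsOfSize.{0, 0} (EtCoh.push f') := (EtCoh.pullPushAdj f').rightAdjoint_preservesLimits
  intro q
  induction q with
  | zero =>
    intro F _
    exact ⟨(EtCoh.pull g).mapIso ((EtCoh.push f).rightDerivedZeroIsoSelf.app F) ≪≫
      (bc0Iso' f g f' g' h).app F ≪≫ ((EtCoh.push f').rightDerivedZeroIsoSelf.app _).symm⟩
  | succ q ih =>
    intro F hF
    obtain ⟨T, v, hv, hT, hq⟩ := exists_torsion_qAcyclic hF
    have hS : (ShortComplex.mk v (cokernel.π v) (cokernel.condition v)).ShortExact :=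
      ShortComplex.ShortExact.mk' (ShortComplex.exact_cokernel _) hv inferInstance
    cases q with
    | zero => exact nonempty_bc_one f g f' g' h hS hT hq
    | succ q =>
      obtain ⟨e⟩ := nonempty_iso_shift f hS (q + 1) (isZero_Rpush_of_qAcyclic f q _ hq)
        (isZero_Rpush_of_qAcyclic f (q + 1) _ hq)
      obtain ⟨e'⟩ := nonempty_iso_shift f' (EtCore45.shortExact_pull' g' hS) (q + 1)
        ((Van.good_of_isProper f).isZero_Rpush hT hq h q)
        ((Van.good_of_isProper f).isZero_Rpush hT hq h (q + 1))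
      obtain ⟨c⟩ := ih (cokernel v) (Cons51.isTorsion_of_epi (cokernel.π v) hT)
      exact ⟨(EtCoh.pull g).mapIso e ≪≫ c ≪≫ e'.symm⟩

end

section Fibre

variable {Ω : Type u} [Field Ω] [IsSepClosed Ω]

/-- Global sections over a separably closed field are the stalk. -/
noncomputable def gsecStalkIdIso :
    EtCore.gsec (Spec (CommRingCat.of Ω)) ≅ EtCoh.stalk (𝟙 (Spec (CommRingCat.of Ω))) :=
  NatIso.ofComponents
    (fun F => (AddEquiv.ofBijective _ (Cons51.germ_top_bijective_id F)).toAddCommGrpIso)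
    fun φ => ConcreteCategory.hom_ext _ _ fun x =>
      (stalk_map_germ (𝟙 _) φ (mkPt (𝟙 _) (U := EtCoh.top _) (𝟙 _) (Category.comp_id _)) x).symm

/-- Over a separably closed field the stalk of a higher direct image is cohomology. -/
theorem nonempty_stalk_Rpush_field {Z : Scheme.{u}} (p : Z ⟶ Spec (CommRingCat.of Ω)) [QuasiCompact p]
    [QuasiSeparated p] (G : EtCoh.Ab Z) (n : ℕ) :
    Nonempty ((EtCoh.stalk (𝟙 (Spec (CommRingCat.of Ω)))).obj ((EtCoh.Rpush p n).obj G) ≅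
      AddCommGrpCat.of (EtCoh.H Z G n)) := by
  have : PreservesLimitsOfSize.{0, 0} (EtCoh.push p) := (EtCoh.pullPushAdj p).rightAdjoint_preservesLimits
  let E := EtCoh.stalk (𝟙 (Spec (CommRingCat.of Ω)))
  obtain ⟨φ⟩ := EtLim45.nonempty_iso_rightDerived (𝟭 (EtCoh.Ab Z)) (fun I hI m => by
    have := hI
    exact subsingleton_of_forall_eq 0 fun x => Abelian.Ext.eq_zero_of_injective x) n
  let e0 : EtCoh.push p ⋙ E ≅ 𝟭 (EtCoh.Ab Z) ⋙ EtCoh.HF Z 0 :=
    Functor.isoWhiskerLeft (EtCoh.push p) gsecStalkIdIso.symm ≪≫ EtCore.pushGsecIso p ≪≫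
      (EtLim45.HF0Iso Z).symm ≪≫ (Functor.leftUnitor _).symm
  exact ⟨((SiteCoh.rightDerivedCompExactIso (EtCoh.push p) E n).symm ≪≫
    { hom := NatTrans.rightDerived e0.hom n
      inv := NatTrans.rightDerived e0.inv n
      hom_inv_id := by simp [← NatTrans.rightDerived_comp, NatTrans.rightDerived_id]
      inv_hom_id := by simp [← NatTrans.rightDerived_comp, NatTrans.rightDerived_id] } ≪≫ φ.symm ≪≫
    Functor.leftUnitor _).app G⟩

/-- The stalk at a geometric point through the inverse image to it. -/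
theorem nonempty_stalk_pull {Y : Scheme.{u}} (ξ : Spec (CommRingCat.of Ω) ⟶ Y) (A : EtCoh.Ab Y) :
    Nonempty ((EtCoh.stalk ξ).obj A ≅ (EtCoh.stalk (𝟙 (Spec (CommRingCat.of Ω)))).obj ((EtCoh.pull ξ).obj A)) := by
  have : IsIso (theta ξ (𝟙 _) A) := (ConcreteCategory.isIso_iff_bijective _).2 (theta_bijective ξ (𝟙 _) A)
  exact ⟨eqToIso (by rw [Category.id_comp]) ≪≫ asIso (theta ξ (𝟙 _) A)⟩

/-- Stalks of higher direct images under a proper morphism are the cohomology of geometric fibres. -/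
theorem nonempty_stalk_Rpush_proper {X Y : Scheme.{u}} (f : X ⟶ Y) [IsProper f]
    (ξ : Spec (CommRingCat.of Ω) ⟶ Y) (F : EtCoh.Ab X) (hF : EtCoh.IsTorsion F) (n : ℕ) :
    Nonempty ((EtCoh.stalk ξ).obj ((EtCoh.Rpush f n).obj F) ≅
      AddCommGrpCat.of (EtCoh.H (pullback f ξ) ((EtCoh.pull (pullback.fst f ξ)).obj F) n)) := by
  obtain ⟨e1⟩ := nonempty_stalk_pull ξ ((EtCoh.Rpush f n).obj F)
  obtain ⟨e2⟩ := nonempty_bc f ξ _ _ (IsPullback.of_hasPullback f ξ) n F hF
  obtain ⟨e3⟩ := nonempty_stalk_Rpush_field (pullback.snd f ξ) ((EtCoh.pull (pullback.fst f ξ)).obj F) n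
  exact ⟨e1 ≪≫ (EtCoh.stalk _).mapIso e2 ≪≫ e3⟩

/-- Extensions of separably closed fields. -/
theorem nonempty_H_fieldExt {K : Type u} [Field K] [IsSepClosed K] {X : Scheme.{u}}
    (a : X ⟶ Spec (CommRingCat.of Ω)) [IsProper a] (c : Spec (CommRingCat.of K) ⟶ Spec (CommRingCat.of Ω))
    (F : EtCoh.Ab X) (hF : EtCoh.IsTorsion F) (q : ℕ) :
    Nonempty (EtCoh.H X F q ≃+ EtCoh.H (pullback a c) ((EtCoh.pull (pullback.fst a c)).obj F) q) := by
  obtain ⟨e1⟩ := nonempty_stalk_Rpush_field a F q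
  obtain ⟨e2⟩ := nonempty_stalk_Rpush_proper a (c ≫ 𝟙 _) F hF q
  have : IsIso (Cons51.stalkExt c (𝟙 _) ((EtCoh.Rpush a q).obj F)) :=
    (ConcreteCategory.isIso_iff_bijective _).2 (Cons51.stalkExt_bijective c (𝟙 _) _)
  let e := e1.symm ≪≫ asIso (Cons51.stalkExt c (𝟙 _) ((EtCoh.Rpush a q).obj F)) ≪≫ e2
  rw [Category.comp_id] at e
  exact ⟨e.addCommGroupIsoToAddEquiv⟩

end Fibre

end Groth.Agent.PBC51
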