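import Groth.Agent.PBC51.Henselian
import Groth.Agent.Gabber51.Hyp
import Groth.Agent.S0121

/-!
Cohomology of a proper scheme over a henselian pair is that of the closed subscheme.
-/

set_option autoImplicit false
set_option backward.isDefEq.respectTransparency.types false
set_option linter.style.haveILetI false
universe u

open CategoryTheory CategoryTheory.Limits CategoryTheory.Abelian AlgebraicGeometry Opposite
open Groth.Agent.Cons51

namespace Groth.Agent.PBC51

/-- Proper base change over a henselian pair. -/
theorem bijective_H_unit_henselianPair {X Z : Scheme.{u}} (i : Z ⟶ X) (A : Type u) [CommRing A] (I : Ideal A)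
    [HenselianRing A I] (f : X ⟶ Spec (CommRingCat.of A)) [IsProper f]
    (t : Z ⟶ Spec (CommRingCat.of (A ⧸ I)))
    (h : IsPullback i t f (Spec.map (CommRingCat.ofHom (Ideal.Quotient.mk I))))
    (F : EtCoh.Ab X) (hF : EtCoh.IsTorsion F) (q : ℕ) :
    Function.Bijective (Sheaf.H.map ((EtCoh.pullPushAdj i).unit.app F) q) := by
  let ι := Spec.map (CommRingCat.ofHom (Ideal.Quotient.mk I))
  have : IsClosedImmersion ι := IsClosedImmersion.spec_of_surjective _ Ideal.Quotient.mk_surjective
  have : IsClosedImmersion i := MorphismProperty.of_isPullback h.flip inferInstance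
  have : IsProper t := MorphismProperty.of_isPullback h inferInstance
  have : CompactSpace X := QuasiCompact.compactSpace_of_compactSpace f
  have : QuasiSeparatedSpace X := quasiSeparatedSpace_of_quasiSeparated f
  have hi : Set.range i = f ⁻¹' PrimeSpectrum.zeroLocus (I : Set A) := by
    rw [← EtConn51.range_fst A I f]
    conv_lhs => rw [← h.isoPullback_hom_fst]
    rw [Scheme.Hom.comp_base, TopCat.coe_comp, Set.range_comp,
      Set.range_eq_univ.2 (show Function.Surjective ⇑h.isoPullback.hom from h.isoPullback.hom.homeomorph.surjective),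
      Set.image_univ]
  have hq : ∀ {T : EtCoh.Ab X}, QAcyclic T → ∀ n, Van.Vanish X T (n + 1) := fun {T} hT n => by
    have : IsIso (EtCoh.top X).hom := (inferInstance : IsIso (𝟙 X))
    exact (Van.vanish_ofIso (EtCoh.top X).hom T (n + 1)).1
      (hT (EtCoh.top X) (inferInstanceAs (CompactSpace X)) (inferInstanceAs (QuasiSeparatedSpace X)) (n + 1) n.succ_pos)
  refine bijective_H_unit i (Gabber51.bijective _ (Gabber51.connFinite_of_henselian i A I f hi))
    (fun T hT hqT n => ⟨hq hqT n, ?_⟩) q F hF
  refine (Van.vanish_leray i _ (fun k => S3054.result i _ (k + 1) k.succ_pos) (n + 1)).1 ?_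
  refine (Van.vanish_leray t _ (fun k => (Van.good_of_isProper f).isZero_Rpush hT hqT h k) (n + 1)).2 ?_
  refine Van.vanish_iso ((bc0Iso' f ι t i h).app T) ?_
  have hpush : Van.Vanish _ ((EtCoh.push f).obj T) (n + 1) := by
    let S := Spec (CommRingCat.of A)
    have : IsIso (EtCoh.top S).hom := (inferInstance : IsIso (𝟙 S))
    exact (Van.vanish_ofIso (EtCoh.top S).hom _ (n + 1)).1
      (qAcyclic_push f hqT (EtCoh.top S) (inferInstanceAs (CompactSpace S)) (inferInstanceAs (QuasiSeparatedSpace S))
        (n + 1) n.succ_pos)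
  refine (Van.vanish_leray ι _ (fun k => S3054.result ι _ (k + 1) k.succ_pos) (n + 1)).2 ?_
  exact @Function.Surjective.subsingleton _ _ _ hpush
    (S0121.result A I ((EtCoh.push f).obj T) (isTorsion_push f hT) (n + 1)).2

end Groth.Agent.PBC51
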