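import Groth.Agent.PBC51.BaseChange
import Groth.Agent.S0121
import Groth.Agent.S0167
import Groth.Agent.Cons51.GabberAffine

/-!
Cohomology of a proper scheme over a henselian local ring is that of its closed fibre.
-/

set_option autoImplicit false
set_option backward.isDefEq.respectTransparency.types false
set_option linter.style.haveILetI false
universe u

open CategoryTheory CategoryTheory.Limits CategoryTheory.Abelian AlgebraicGeometry Opposite
open Groth.Agent.Cons51

namespace Groth.Agent.PBC51

variable {X Z : Scheme.{u}} (i : Z ⟶ X)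

/-- Dimension shifting for the unit of a closed immersion. -/
theorem bijective_H_unit [IsClosedImmersion i]
    (h0 : ∀ F : EtCoh.Ab X, Function.Bijective (((EtCoh.pullPushAdj i).unit.app F).hom.app (op (EtCoh.top X))))
    (hvan : ∀ T : EtCoh.Ab X, EtCoh.IsTorsion T → QAcyclic T → ∀ q : ℕ,
      Van.Vanish X T (q + 1) ∧ Van.Vanish X ((EtCoh.push i).obj ((EtCoh.pull i).obj T)) (q + 1)) :
    ∀ (q : ℕ) (F : EtCoh.Ab X), EtCoh.IsTorsion F →
      Function.Bijective (Sheaf.H.map ((EtCoh.pullPushAdj i).unit.app F) q) := by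
  let adj := EtCoh.pullPushAdj i
  have : (EtCoh.pull i).Additive := adj.left_adjoint_additive
  have : (EtCoh.push i).Additive := adj.right_adjoint_additive
  have : PreservesFiniteLimits (EtCoh.pull i) := Unr55.EtSh.preservesFiniteLimits_pull i
  have : PreservesFiniteColimits (EtCoh.pull i) := by
    have : PreservesColimitsOfSize.{0, 0} (EtCoh.pull i) := adj.leftAdjoint_preservesColimits
    infer_instance
  have := preservesFiniteColimits_push_integral i
  have : PreservesFiniteLimits (EtCoh.push i) := by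
    have : PreservesLimitsOfSize.{0, 0} (EtCoh.push i) := adj.rightAdjoint_preservesLimits
    infer_instance
  let P := EtCoh.pull i ⋙ EtCoh.push i
  intro q
  induction q with
  | zero => exact fun F _ => bijective_H_zero i h0 F
  | succ q ih =>
    intro F hF
    obtain ⟨T, v, hv, hT, hacy⟩ := exists_torsion_qAcyclic hF
    let S := ShortComplex.mk v (cokernel.π v) (cokernel.condition v)
    have hS : S.ShortExact := ShortComplex.ShortExact.mk' (ShortComplex.exact_cokernel _) hv inferInstance
    have hS' : (S.map P).ShortExact := hS.map_of_exact P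
    let m : S ⟶ S.map P :=
      { τ₁ := adj.unit.app _, τ₂ := adj.unit.app _, τ₃ := adj.unit.app _
        comm₁₂ := (adj.unit.naturality v).symm
        comm₂₃ := (adj.unit.naturality (cokernel.π v)).symm }
    have hnat : hS.extClass.comp (Ext.mk₀ (adj.unit.app F)) (add_zero 1) =
        (Ext.mk₀ (adj.unit.app (cokernel v))).comp hS'.extClass (zero_add 1) :=
      ShortComplex.ShortExact.extClass_naturality hS hS' m
    have hQ : EtCoh.IsTorsion (cokernel v) := isTorsion_of_epi (cokernel.π v) hT
    obtain ⟨h1T, h2T⟩ := hvan T hT hacy q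
    refine ⟨(injective_iff_map_eq_zero _).2 fun x hx => ?_, fun ξ => ?_⟩
    · obtain ⟨a, ha⟩ := Ext.covariant_sequence_exact₁ _ hS x (h1T.elim _ _) rfl
      have h1 : (a.comp (Ext.mk₀ (adj.unit.app (cokernel v))) (add_zero q)).comp hS'.extClass rfl = 0 := by
        refine (Ext.comp_assoc (a₂₃ := 1) _ _ _ (add_zero q) (zero_add 1) (by omega)).trans ?_
        refine (congrArg (fun z => a.comp z rfl) hnat.symm).trans ?_
        refine (Ext.comp_assoc (a₁₂ := q + 1) _ _ _ rfl (add_zero 1) (by omega)).symm.trans ?_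
        exact (congrArg (fun z => Ext.comp z (Ext.mk₀ (adj.unit.app F)) (add_zero (q + 1))) ha).trans hx
      obtain ⟨b, hb⟩ := Ext.covariant_sequence_exact₃ _ hS' _ rfl h1
      obtain ⟨b', hb'⟩ := (ih T hT).2 b
      have ha' : a = b'.comp (Ext.mk₀ (cokernel.π v)) (add_zero q) := by
        refine (ih (cokernel v) hQ).1 ?_
        have hb'' : Ext.comp b' (Ext.mk₀ (adj.unit.app T)) (add_zero q) = b := hb'
        show Ext.comp a (Ext.mk₀ (adj.unit.app (cokernel v))) (add_zero q) =
          Ext.comp (Ext.comp b' (Ext.mk₀ (cokernel.π v)) (add_zero q)) (Ext.mk₀ (adj.unit.app (cokernel v))) (add_zero q)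
        rw [← hb, ← hb'']
        refine (Ext.comp_assoc_of_second_deg_zero b' _ _ _).trans (Eq.trans ?_ (Ext.comp_assoc_of_second_deg_zero b' _ _ _).symm)
        refine congrArg (fun z => Ext.comp b' z (add_zero q)) ?_
        refine (Ext.mk₀_comp_mk₀ _ _).trans (Eq.trans (congrArg Ext.mk₀ ?_) (Ext.mk₀_comp_mk₀ _ _).symm)
        exact (adj.unit.naturality (cokernel.π v)).symm
      rw [← ha, ha', Ext.comp_assoc_of_second_deg_zero]
      exact (congrArg (fun z => b'.comp z (zero_add q ▸ rfl)) hS.comp_extClass).trans (by simp)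
    · obtain ⟨a, ha⟩ := Ext.covariant_sequence_exact₁ _ hS' ξ (h2T.elim _ _) rfl
      obtain ⟨a', ha'⟩ := (ih _ hQ).2 a
      refine ⟨a'.comp hS.extClass rfl, ?_⟩
      refine (Ext.comp_assoc (a₂₃ := 1) _ _ _ rfl (add_zero 1) (by omega)).trans ?_
      refine (congrArg (fun z => a'.comp z rfl) hnat).trans ?_
      refine (Ext.comp_assoc (a₁₂ := q) _ _ _ (add_zero q) (zero_add 1) (by omega)).symm.trans ?_
      exact (congrArg (fun z => Ext.comp z hS'.extClass rfl) ha').trans ha

/-- Inverse image on cohomology is the transfer of the map induced by the unit. -/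
theorem Hpull_eq_adjTransfer [PreservesFiniteLimits (EtCoh.pull i)] (F : EtCoh.Ab X) (q : ℕ) (y : EtCoh.H X F q) :
    EtCore.Hpull i F q y = EtCore45.adjTransfer (EtCoh.pullPushAdj i) (EtCore.pullConst i ℤ).inv _ q
      (Sheaf.H.map ((EtCoh.pullPushAdj i).unit.app F) q y) := by
  show _ = EtCore45.adjTransfer (EtCoh.pullPushAdj i) (EtCore.pullConst i ℤ).inv _ q
    (Ext.comp y (Ext.mk₀ ((EtCoh.pullPushAdj i).unit.app F)) (add_zero q))
  rw [EtCore45.adjTransfer_apply, SiteCoh.extTransfer_naturality,
    Ext.comp_assoc_of_second_deg_zero, Ext.mk₀_comp_mk₀]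
  refine (Ext.comp_mk₀_id _).symm.trans ?_
  exact congrArg (fun z => Ext.comp (EtCore.Hpull i F q y) (Ext.mk₀ z) (add_zero q))
    ((EtCoh.pullPushAdj i).left_triangle_components F).symm

/-- Proper base change over a henselian local ring. -/
theorem bijective_Hpull_henselian (A : Type u) [CommRing A] [HenselianLocalRing A] (f : X ⟶ Spec (CommRingCat.of A))
    [IsProper f]
    [PreservesFiniteLimits (EtCoh.pull (pullback.fst f (Spec.map (CommRingCat.ofHom (IsLocalRing.residue A)))))]
    (F : EtCoh.Ab X) (hF : EtCoh.IsTorsion F) (q : ℕ) :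
    Function.Bijective
      (EtCore.Hpull (pullback.fst f (Spec.map (CommRingCat.ofHom (IsLocalRing.residue A)))) F q) := by
  let ι := Spec.map (CommRingCat.ofHom (IsLocalRing.residue A))
  let i := pullback.fst f ι
  let p0 := pullback.snd f ι
  have : IsClosedImmersion ι := IsClosedImmersion.spec_of_surjective _ IsLocalRing.residue_surjective
  have : IsClosedImmersion i := MorphismProperty.pullback_fst _ _ inferInstance
  have : CompactSpace X := QuasiCompact.compactSpace_of_compactSpace f
  have : QuasiSeparatedSpace X := quasiSeparatedSpace_of_quasiSeparated f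
  have hq : ∀ {T : EtCoh.Ab X}, QAcyclic T → ∀ n, Van.Vanish X T (n + 1) := fun {T} h n => by
    have : IsIso (EtCoh.top X).hom := (inferInstance : IsIso (𝟙 X))
    exact (Van.vanish_ofIso (EtCoh.top X).hom T (n + 1)).1
      (h (EtCoh.top X) (inferInstanceAs (CompactSpace X)) (inferInstanceAs (QuasiSeparatedSpace X)) (n + 1) n.succ_pos)
  have h0 : ∀ G : EtCoh.Ab X,
      Function.Bijective (((EtCoh.pullPushAdj i).unit.app G).hom.app (op (EtCoh.top X))) :=
    fun G => S0167.result A X f G
  have hvan : ∀ T : EtCoh.Ab X, EtCoh.IsTorsion T → QAcyclic T → ∀ n : ℕ,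
      Van.Vanish X T (n + 1) ∧ Van.Vanish X ((EtCoh.push i).obj ((EtCoh.pull i).obj T)) (n + 1) := by
    intro T hT hqT n
    refine ⟨hq hqT n, (Van.vanish_leray i _ (fun k => S3054.result i _ (k + 1) k.succ_pos) (n + 1)).1 ?_⟩
    refine (Van.vanish_leray p0 _ (fun k =>
      (Van.good_of_isProper f).isZero_Rpush hT hqT (IsPullback.of_hasPullback f ι) k) (n + 1)).2 ?_
    refine Van.vanish_iso ((Van.bc0Iso f ι).app T) ?_
    have hpush : Van.Vanish _ ((EtCoh.push f).obj T) (n + 1) := by
      let S := Spec (CommRingCat.of A)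
      have : IsIso (EtCoh.top S).hom := (inferInstance : IsIso (𝟙 S))
      exact (Van.vanish_ofIso (EtCoh.top S).hom _ (n + 1)).1
        (qAcyclic_push f hqT (EtCoh.top S) (inferInstanceAs (CompactSpace S)) (inferInstanceAs (QuasiSeparatedSpace S))
          (n + 1) n.succ_pos)
    refine (Van.vanish_leray ι _ (fun k => S3054.result ι _ (k + 1) k.succ_pos) (n + 1)).2 ?_
    exact @Function.Surjective.subsingleton _ _ _ hpush
      (S0121.result A (IsLocalRing.maximalIdeal A) ((EtCoh.push f).obj T) (isTorsion_push f hT) (n + 1)).2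
  have h1 := bijective_H_unit i h0 hvan q F hF
  have : (EtCoh.push i).Additive := (EtCoh.pullPushAdj i).right_adjoint_additive
  have h2 := EtCore45.adjTransfer_bijective (EtCoh.pullPushAdj i) (EtCore.pullConst i ℤ).inv q ((EtCoh.pull i).obj F)
    fun p hp => S3054.result i _ p hp
  have e : ⇑(EtCore.Hpull i F q) = ⇑(EtCore45.adjTransfer (EtCoh.pullPushAdj i) (EtCore.pullConst i ℤ).inv
      ((EtCoh.pull i).obj F) q) ∘ ⇑(Sheaf.H.map ((EtCoh.pullPushAdj i).unit.app F) q) :=
    funext (Hpull_eq_adjTransfer i F q)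
  exact (congrArg Function.Bijective e).mpr (h2.comp h1)

end Groth.Agent.PBC51
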