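import Groth.Agent.PBC51.BaseChange
import Groth.Agent.Cons51.TorsionInj

/-!
Sheaves injective among those killed by an integer have no higher direct images.
-/

set_option autoImplicit false
set_option backward.isDefEq.respectTransparency.types false
universe u

open CategoryTheory CategoryTheory.Limits AlgebraicGeometry Opposite
open Groth.Agent.Unr55.EtSh

namespace Groth.Agent.PBC51

variable {X Y : Scheme.{u}}

/-- Multiplication on an injective sheaf is an epimorphism. -/
theorem epi_nsmul (G : EtCoh.Ab X) [Injective G] {N : ℕ} (hN : 0 < N) : Epi (N • 𝟙 G) :=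
  epi_of_stalks _ fun K _ _ η a => by
    obtain ⟨b, rfl⟩ := Cons51.exists_nsmul_stalk G hN η a
    have : PreservesColimitsOfSize.{u + 1, u + 1} (EtCoh.stalk η) :=
      (Scheme.pointSmallEtale η).skyscraperSheafAdjunction.leftAdjoint_preservesColimits
    refine ⟨b, ?_⟩
    rw [Functor.map_nsmul, (EtCoh.stalk η).map_id]
    rfl

/-- Higher direct images of the kernel of multiplication on an injective sheaf vanish. -/
theorem isZero_Rpush_kernel_nsmul (f : X ⟶ Y) (J : EtCoh.Ab X) [Injective J] {N : ℕ} (hN : 0 < N) (q : ℕ) :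
    IsZero ((EtCoh.Rpush f (q + 1)).obj (kernel (N • 𝟙 J))) := by
  have : PreservesLimitsOfSize.{0, 0} (EtCoh.push f) := (EtCoh.pullPushAdj f).rightAdjoint_preservesLimits
  have : Epi (N • 𝟙 J) := epi_nsmul J hN
  have hS : (ShortComplex.mk (kernel.ι (N • 𝟙 J)) (N • 𝟙 J) (kernel.condition _)).ShortExact :=
    ShortComplex.ShortExact.mk' (ShortComplex.exact_of_f_is_kernel _ (kernelIsKernel _)) inferInstance inferInstance
  have hz : ∀ k, IsZero ((EtCoh.Rpush f (k + 1)).obj J) := fun k =>
    (EtCoh.push f).isZero_rightDerived_obj_injective_succ k J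
  cases q with
  | zero =>
    obtain ⟨e⟩ := nonempty_iso_cokernel f hS 0 (hz 0)
    let e0 := (EtCoh.push f).rightDerivedZeroIsoSelf.app J
    have : Injective ((EtCoh.push f).obj J) := EtCore45.injective_push f J
    have : Injective ((EtCoh.Rpush f 0).obj J) := Injective.of_iso e0.symm this
    have := epi_nsmul ((EtCoh.Rpush f 0).obj J) hN
    have : Epi ((EtCoh.Rpush f 0).map (N • 𝟙 J)) := by
      rw [Functor.map_nsmul, (EtCoh.Rpush f 0).map_id]
      exact this
    exact IsZero.of_iso (isZero_cokernel_of_epi _) e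
  | succ q =>
    obtain ⟨e⟩ := nonempty_iso_shift f hS (q + 1) (hz q) (hz (q + 1))
    exact IsZero.of_iso (hz q) e

/-- Sheaves injective among those killed by `N` have no higher direct images. -/
theorem isZero_Rpush_of_modInjective (f : X ⟶ Y) {N : ℕ} (hN : 0 < N) (I : EtCoh.Ab X) (hI : EtCoh.KilledBy N I)
    (hinj : ∀ (G : EtCoh.Ab X), EtCoh.KilledBy N G → ∀ (a : G ⟶ I) {G' : EtCoh.Ab X} (m : G ⟶ G'),
      EtCoh.KilledBy N G' → Mono m → ∃ b : G' ⟶ I, m ≫ b = a) (q : ℕ) :
    IsZero ((EtCoh.Rpush f (q + 1)).obj I) := by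
  let J := Injective.under I
  let K := kernel (N • 𝟙 J)
  have h0 : Injective.ι I ≫ (N • 𝟙 J) = 0 := by
    refine ObjectProperty.hom_ext _ (NatTrans.ext (funext fun U => ConcreteCategory.hom_ext _ _ fun s => ?_))
    have e : Injective.ι I ≫ (N • 𝟙 J) = (N • 𝟙 I) ≫ Injective.ι I := by
      rw [Preadditive.comp_nsmul, Preadditive.nsmul_comp, Category.comp_id, Category.id_comp]
    rw [e]
    show (Injective.ι I).hom.app U (N • s) = 0
    exact (congrArg _ (hI U.unop s)).trans (map_zero ((Injective.ι I).hom.app U).hom)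
  let m := kernel.lift (N • 𝟙 J) (Injective.ι I) h0
  have : Mono (m ≫ kernel.ι (N • 𝟙 J)) := by rw [kernel.lift_ι]; infer_instance
  have hm : Mono m := mono_of_mono m (kernel.ι (N • 𝟙 J))
  have hK : EtCoh.KilledBy N K := by
    intro U s
    have : PreservesLimitsOfSize.{0, 0} (sheafToPresheaf X.smallEtaleTopology AddCommGrpCat.{u + 1}) :=
      (sheafificationAdjunction X.smallEtaleTopology AddCommGrpCat.{u + 1}).rightAdjoint_preservesLimits
    have : Mono (((sheafToPresheaf X.smallEtaleTopology AddCommGrpCat.{u + 1}).map (kernel.ι (N • 𝟙 J))).app (op U)) :=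
      inferInstance
    refine (AddCommGrpCat.mono_iff_injective _).1 this ?_
    rw [map_zero, map_nsmul]
    have hc : N • kernel.ι (N • 𝟙 J) = 0 := by
      have := kernel.condition (N • 𝟙 J)
      rwa [Preadditive.comp_nsmul, Category.comp_id] at this
    exact ConcreteCategory.congr_hom (congrArg (fun z : K ⟶ J => z.hom.app (op U)) hc) s
  obtain ⟨b, hb⟩ := hinj I hI (𝟙 I) m hK hm
  refine (IsZero.iff_id_eq_zero _).2 ?_
  rw [← (EtCoh.Rpush f (q + 1)).map_id, ← hb, Functor.map_comp,
    (isZero_Rpush_kernel_nsmul f J hN q).eq_of_tgt ((EtCoh.Rpush f (q + 1)).map m) 0, zero_comp]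

end Groth.Agent.PBC51
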