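import Groth.Agent.PBC51.BaseChange
import Groth.Agent.CdP50.AS
import Groth.Agent.CdP50.Dev
import Groth.Agent.HTop50.ASSepClosed
import Groth.Agent.Grpd80.DimStab
import Groth.Agent.SpFP87.IntegralDim
import Groth.Agent.Depth22.TorsTools
import Groth.Agent.Henz21.EtAcyc.Comp

/-!
Vanishing of `p`-primary cohomology above the fibre dimension for proper morphisms in characteristic `p`.
-/

set_option autoImplicit false
set_option backward.isDefEq.respectTransparency.types false
universe u

open CategoryTheory CategoryTheory.Limits CategoryTheory.Abelian AlgebraicGeometry Opposite TopologicalSpace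

namespace Groth.Agent.PBC51

/-- Integral morphisms do not raise the dimension. -/
theorem topologicalKrullDim_le_of_integral {A B : Scheme.{u}} (f : A ⟶ B) [IsIntegralHom f] :
    topologicalKrullDim ↥A ≤ topologicalKrullDim ↥B := by
  rw [topologicalKrullDim, topologicalKrullDim,
    Order.krullDim_eq_of_orderIso (irreducibleSetEquivPoints (α := ↥B)),
    Order.krullDim_eq_of_orderIso (irreducibleSetEquivPoints (α := ↥A))]
  rw [Order.krullDim_eq_iSup_height, Order.krullDim_eq_iSup_height]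
  refine iSup_le (α := WithBot ℕ∞) fun a => ?_
  rw [SpFP87.height_eq_of_integral f a]
  exact le_iSup (α := WithBot ℕ∞) (fun y : ↥B => ((Order.height y : ℕ∞) : WithBot ℕ∞)) (f a)

variable {p : ℕ} [Fact p.Prime] {k : Type u} [Field k] [IsSepClosed k] [CharP k p]

/-- The constant sheaf above the dimension. -/
theorem subsingleton_H_const_above_dim {X : Scheme.{u}} (f : X ⟶ Spec (CommRingCat.of k)) [IsProper f] {n : ℕ}
    (hn : topologicalKrullDim X ≤ n) (q : ℕ) (hq : n < q) :
    Subsingleton (EtCoh.H X (EtCoh.const X (ZMod p)) q) := by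
  let : X.Over (Spec (CommRingCat.of k)) := ⟨f⟩
  have : IsProper (X ↘ Spec (CommRingCat.of k)) := ‹IsProper f›
  have : IsLocallyNoetherian X := LocallyOfFiniteType.isLocallyNoetherian f
  have : CompactSpace X := QuasiCompact.compactSpace_of_compactSpace f
  have : IsNoetherian X := {}
  have hp : (p : Γ(X, ⊤)) = 0 := by
    let φ : k →+* Γ(X, ⊤) := ((Scheme.ΓSpecIso (CommRingCat.of k)).inv ≫ f.appTop).hom
    rw [← map_natCast φ p, CharP.cast_eq_zero, map_zero]
  obtain ⟨m, rfl⟩ : ∃ m, q = m + 1 := ⟨q - 1, by omega⟩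
  obtain ⟨e1⟩ := Unr55.GaZar.H_Ga_equiv X (m + 1)
  have := CdP50.qcoh_van_of_dim hn (Coh.structureModule X) (m + 1) (by omega)
  have hs1 : Subsingleton (EtCoh.H X (EtCoh.Ga X) (m + 1)) := e1.toEquiv.subsingleton
  refine subsingleton_of_forall_eq 0 fun x => ?_
  obtain ⟨y, rfl⟩ := Ext.covariant_sequence_exact₁ _ (Unr55.EtAS.shortExact_seq hp) x (hs1.elim _ _) rfl
  obtain ⟨z, rfl⟩ := (HTop50.AS.card_and_surjective (k := k) hp m).2 y
  rw [Ext.comp_assoc_of_second_deg_zero]
  exact (congrArg (fun w => Ext.comp z w rfl) (Unr55.EtAS.shortExact_seq hp).comp_extClass).trans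
    (Ext.comp_zero _ _ _ _ _)

/-- The cohomological `p`-dimension of a proper scheme is at most its dimension. -/
theorem cohDimLEAt_of_isProper {X : Scheme.{u}} (f : X ⟶ Spec (CommRingCat.of k)) [IsProper f] {n : ℕ}
    (hn : topologicalKrullDim X ≤ n) : Dix.CohDimLEAt X p n := by
  have : IsLocallyNoetherian X := LocallyOfFiniteType.isLocallyNoetherian f
  have : CompactSpace X := QuasiCompact.compactSpace_of_compactSpace f
  have : IsNoetherian X := {}
  exact CdP50.cohDimLEAt_of_constVan fun Y h hh q hq =>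
    subsingleton_H_const_above_dim (h ≫ f) ((topologicalKrullDim_le_of_integral h).trans hn) q hq

/-- The dimension of a geometric fibre. -/
theorem topologicalKrullDim_geomFibre {X S : Scheme.{u}} (f : X ⟶ S) [LocallyOfFiniteType f] {Ω : Type u}
    [Field Ω] (ξ : Spec (CommRingCat.of Ω) ⟶ S) :
    ∃ s : S, topologicalKrullDim ↥(pullback f ξ) = topologicalKrullDim (f.fiber s) := by
  obtain ⟨⟨s, φ⟩, rfl⟩ := (Scheme.SpecToEquivOfField Ω S).symm.surjective ξ
  refine ⟨s, ?_⟩
  let t := pullback.snd f (S.fromSpecResidueField s)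
  have : LocallyOfFiniteType t := inferInstance
  have hp := (IsPullback.of_hasPullback t (Spec.map φ)).paste_horiz
    (IsPullback.of_hasPullback f (S.fromSpecResidueField s))
  exact (IsHomeomorph.topologicalKrullDim_eq _ hp.isoPullback.hom.homeomorph.isHomeomorph).symm.trans
    (Grpd80.dim_pullback_point (Iso.refl (Spec (CommRingCat.of (S.residueField s)))) t (Spec.map φ))

/-- `p`-primary higher direct images vanish above the fibre dimension. -/
theorem isZero_Rpush_pTorsion {X S : Scheme.{u}} (f : X ⟶ S) [IsProper f] (hS : (p : Γ(S, ⊤)) = 0) (n : ℕ)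
    (hdim : ∀ s : S, topologicalKrullDim (f.fiber s) ≤ n) (F : EtCoh.Ab X)
    (hF : ∀ (U : X.Etale) (s : EtCoh.sect F U), ∃ k : ℕ, p ^ k • s = 0) (q : ℕ) (hq : n < q) :
    IsZero ((EtCoh.Rpush f q).obj F) := by
  have hp : p.Prime := Fact.out
  have hL : EtAcyc.IsLTorsion {p} F := fun U s x => by
    obtain ⟨m, hm⟩ := hF U s
    exact ⟨U, 𝟙 U, p ^ m, ⟨x, rfl⟩, Depth22.primesIn_pow hp m, by rw [← map_nsmul, hm, map_zero]⟩
  have hT : EtCoh.IsTorsion F := fun U s x => by
    obtain ⟨m, hm⟩ := hF U s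
    exact ⟨U, 𝟙 U, ⟨x, rfl⟩, isOfFinAddOrder_iff_nsmul_eq_zero.2
      ⟨p ^ m, pow_pos hp.pos m, by rw [← map_nsmul, hm, map_zero]⟩⟩
  refine EtCore45.isZero_of_stalks _ fun K _ _ η => ?_
  obtain ⟨e⟩ := nonempty_stalk_Rpush_proper f η F hT q
  refine IsZero.of_iso ?_ e
  obtain ⟨s, hs⟩ := topologicalKrullDim_geomFibre f η
  have : CharP K p := by
    let φ : Γ(S, ⊤) →+* K := (η.appTop ≫ (Scheme.ΓSpecIso (CommRingCat.of K)).hom).hom
    exact (CharP.charP_iff_prime_eq_zero hp).2 ((map_natCast φ p).symm.trans (by rw [hS, map_zero]))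
  have := cohDimLEAt_of_isProper (pullback.snd f η) ((hs.le.trans (hdim s) : topologicalKrullDim ↥(pullback f η) ≤ (n : WithBot ℕ∞)))
    ((EtCoh.pull (pullback.fst f η)).obj F) (fun U σ x => by
      obtain ⟨V, g, m, hv, hm, h⟩ := Henz21.EtAcycComp.isLTorsion_pull (pullback.fst f η) hL U σ x
      obtain ⟨j, rfl⟩ := Depth22.primesIn_singleton hm
      exact ⟨V, g, hv, j, h⟩) q hq
  exact @AddCommGrpCat.isZero_of_subsingleton _ this

end Groth.Agent.PBC51
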