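import Groth.Agent.EtCore45.SepClConst
import Groth.Agent.Cons51.TorsionInj
import Groth.Agent.Cons51.TorsionCoh
import Groth.Agent.Unr55.Et.HFiltColim
import Groth.Agent.S0125

/-!
Torsion sheaves acyclic on every quasi-compact quasi-separated object.
-/

set_option autoImplicit false
set_option backward.isDefEq.respectTransparency.types false
universe u

open CategoryTheory CategoryTheory.Limits CategoryTheory.Abelian AlgebraicGeometry Opposite
open Groth.Agent.EtCore45

namespace Groth.Agent.PBC51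

variable {X Y : Scheme.{u}}

/-- Positive degree cohomology vanishes on every qcqs object. -/
def QAcyclic (F : EtCoh.Ab X) : Prop :=
  ∀ (W : X.Etale), CompactSpace W.left → QuasiSeparatedSpace W.left → ∀ q : ℕ, 0 < q →
    Subsingleton (EtCoh.H W.left ((EtCoh.pull W.hom).obj F) q)

theorem qAcyclic_of_isAcyclicEt {F : EtCoh.Ab X} (h : IsAcyclicEt F) : QAcyclic F := fun W _ _ q hq => h W q hq

theorem qAcyclic_quot {S : ShortComplex (EtCoh.Ab X)} (hS : S.ShortExact)
    (h₁ : QAcyclic S.X₁) (h₂ : QAcyclic S.X₂) : QAcyclic S.X₃ := by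
  intro W hc hs q hq
  refine subsingleton_of_forall_eq 0 fun x => ?_
  have := h₂ W hc hs q hq
  have := h₁ W hc hs (q + 1) q.succ_pos
  obtain ⟨x₂, rfl⟩ := Ext.covariant_sequence_exact₃ _ (shortExact_pull W hS) x rfl
    (Subsingleton.elim (α := EtCoh.H W.left ((EtCoh.pull W.hom).obj S.X₁) (q + 1)) _ _)
  obtain rfl := Subsingleton.elim (α := EtCoh.H W.left ((EtCoh.pull W.hom).obj S.X₂) q) x₂ 0
  exact Ext.zero_comp _ _ _ _ _

theorem qcqs_bc (f : X ⟶ Y) [QuasiCompact f] [QuasiSeparated f] (V : Y.Etale) (hc : CompactSpace V.left)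
    (hs : QuasiSeparatedSpace V.left) :
    CompactSpace ((EtCoh.bc f).obj V).left ∧ QuasiSeparatedSpace ((EtCoh.bc f).obj V).left := by
  change CompactSpace ↥(pullback V.hom f) ∧ QuasiSeparatedSpace ↥(pullback V.hom f)
  let q : pullback V.hom f ⟶ V.left := pullback.fst V.hom f
  have : QuasiCompact q := (inferInstance : QuasiCompact (pullback.fst V.hom f))
  have : QuasiSeparated q := (inferInstance : QuasiSeparated (pullback.fst V.hom f))
  have := hc
  have := hs
  exact ⟨QuasiCompact.compactSpace_of_compactSpace q, quasiSeparatedSpace_of_quasiSeparated q⟩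

theorem exists_affine_germ {F : EtCoh.Ab Y} {K : Type u} [Field K] [IsSepClosed K]
    (η : Spec (CommRingCat.of K) ⟶ Y) (b : ((EtCoh.stalk η).obj F : AddCommGrpCat.{u + 1})) :
    ∃ (V : Y.Etale) (_ : CompactSpace V.left) (_ : QuasiSeparatedSpace V.left) (t : Unr55.EtSh.Pt η V)
      (σ : EtCoh.sect F V), Unr55.EtSh.germ η F t σ = b := by
  obtain ⟨V, t, σ, rfl⟩ := Unr55.EtSh.exists_germ_eq η F b
  obtain ⟨B, hB, htB, -⟩ := exists_isAffineOpen_mem_and_subset (X := V.left)
    (x := Unr55.EtSh.hom η t default) (U := ⊤) trivial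
  have : IsAffine B.toScheme := hB
  refine ⟨Unr55.EtSh.openSub V B, inferInstanceAs (CompactSpace B.toScheme),
    inferInstanceAs (QuasiSeparatedSpace B.toScheme), Unr55.EtSh.ptOpen B t htB,
    F.obj.map (Unr55.EtSh.openSubι V B).op σ, ?_⟩
  rw [Unr55.EtSh.germ_map, Unr55.EtSh.map_ptOpen]

variable (f : X ⟶ Y) [QuasiCompact f] [QuasiSeparated f]

theorem shortExact_push {S : ShortComplex (EtCoh.Ab X)} (hS : S.ShortExact) (h₁ : QAcyclic S.X₁) :
    (S.map (EtCoh.push f)).ShortExact := by
  have : PreservesLimitsOfSize.{0, 0} (EtCoh.push f) := (EtCoh.pullPushAdj f).rightAdjoint_preservesLimits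
  have : PreservesFiniteLimits (EtCoh.push f) := PreservesLimitsOfSize.preservesFiniteLimits _
  have hl : (S.map (EtCoh.push f)).Exact ∧ Mono ((EtCoh.push f).map S.f) :=
    ((Functor.preservesFiniteLimits_iff_forall_exact_map_and_mono (EtCoh.push f)).1 this) S hS
  have : Epi ((EtCoh.push f).map S.g) := Unr55.EtSh.epi_of_stalks _ fun K _ _ η b => by
    obtain ⟨V, hc, hs, t, σ, rfl⟩ := exists_affine_germ η b
    obtain ⟨hc', hs'⟩ := qcqs_bc f V hc hs
    obtain ⟨τ, hτ⟩ := sections_surjective hS ((EtCoh.bc f).obj V) (h₁ _ hc' hs' 1 zero_lt_one) σ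
    exact ⟨Unr55.EtSh.germ η ((EtCoh.push f).obj S.X₂) t τ,
      (Unr55.EtSh.stalk_map_germ η ((EtCoh.push f).map S.g) t τ).trans (congrArg _ hτ)⟩
  exact ShortComplex.ShortExact.mk' hl.1 hl.2 this

theorem qAcyclic_push_aux (q : ℕ) : ∀ F : EtCoh.Ab X, QAcyclic F → ∀ V : Y.Etale,
    CompactSpace V.left → QuasiSeparatedSpace V.left →
    Subsingleton (EtCoh.H V.left ((EtCoh.pull V.hom).obj ((EtCoh.push f).obj F)) (q + 1)) := by
  induction q with
  | zero =>
    intro F hF V hc hs
    obtain ⟨hc', hs'⟩ := qcqs_bc f V hc hs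
    refine subsingleton_of_forall_eq 0 fun x => ?_
    have hS := shortExact_push f (injSeq_shortExact F) hF
    have : Injective ((EtCoh.push f).obj (injSeq F).X₂) := injective_push f _
    have := isAcyclicEt_injective ((EtCoh.push f).obj (injSeq F).X₂) V 1 zero_lt_one
    obtain ⟨x₃, rfl⟩ := Ext.covariant_sequence_exact₁ _ (shortExact_pull V hS) x
      (Subsingleton.elim (α := EtCoh.H V.left ((EtCoh.pull V.hom).obj ((EtCoh.push f).obj (injSeq F).X₂)) 1) _ _) (zero_add 1)
    obtain ⟨φ, rfl⟩ := Ext.addEquiv₀.symm.surjective x₃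
    obtain ⟨τ, hτ⟩ := sections_surjective (injSeq_shortExact F) ((EtCoh.bc f).obj V) (hF _ hc' hs' 1 zero_lt_one)
      (secPull V ((EtCoh.push f).obj (injSeq F).X₃) φ)
    have e : (secPull V ((EtCoh.push f).obj (injSeq F).X₂)).symm τ ≫
        (EtCoh.pull V.hom).map ((EtCoh.push f).map (injSeq F).g) = φ := by
      apply (secPull V ((EtCoh.push f).obj (injSeq F).X₃)).injective
      refine (secPull_comp V ((EtCoh.push f).map (injSeq F).g) _).trans ?_
      rw [AddEquiv.apply_symm_apply]
      exact hτ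
    rw [← e]
    change (Ext.mk₀ _).comp _ _ = 0
    refine (congrArg (fun z => Ext.comp z (shortExact_pull V hS).extClass (zero_add 1)) (Ext.mk₀_comp_mk₀ _ _).symm).trans ?_
    refine (Ext.comp_assoc_of_second_deg_zero _ _ _ _).trans ?_
    exact (congrArg ((Ext.mk₀ _).comp · (zero_add 1)) (shortExact_pull V hS).comp_extClass).trans (Ext.comp_zero _ _ _ _ _)
  | succ q ih =>
    intro F hF V hc hs
    refine subsingleton_of_forall_eq 0 fun x => ?_
    have hS := shortExact_push f (injSeq_shortExact F) hF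
    have : Injective ((EtCoh.push f).obj (injSeq F).X₂) := injective_push f _
    have := isAcyclicEt_injective ((EtCoh.push f).obj (injSeq F).X₂) V (q + 1 + 1) (q + 1).succ_pos
    obtain ⟨x₃, rfl⟩ := Ext.covariant_sequence_exact₁ _ (shortExact_pull V hS) x
      (Subsingleton.elim (α := EtCoh.H V.left ((EtCoh.pull V.hom).obj ((EtCoh.push f).obj (injSeq F).X₂)) (q + 1 + 1)) _ _)
      (rfl : q + 1 + 1 = q + 1 + 1)
    have := ih _ (qAcyclic_quot (injSeq_shortExact F) hF
      (qAcyclic_of_isAcyclicEt (isAcyclicEt_injective (Injective.under F)))) V hc hs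
    rw [show x₃ = 0 from Subsingleton.elim (α := EtCoh.H V.left ((EtCoh.pull V.hom).obj ((EtCoh.push f).obj (injSeq F).X₃)) (q + 1)) x₃ _]
    exact Ext.zero_comp _ _ _ _ _

theorem qAcyclic_push {F : EtCoh.Ab X} (hF : QAcyclic F) : QAcyclic ((EtCoh.push f).obj F) := by
  intro V hc hs q hq
  obtain ⟨q, rfl⟩ := Nat.exists_eq_add_one.2 hq
  exact qAcyclic_push_aux f q F hF V hc hs

/-- Higher direct images along qcqs morphisms vanish. -/
theorem isZero_Rpush_of_qAcyclic :
    ∀ (q : ℕ) (F : EtCoh.Ab X), QAcyclic F → IsZero ((EtCoh.Rpush f (q + 1)).obj F) := by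
  have : PreservesLimitsOfSize.{0, 0} (EtCoh.push f) := (EtCoh.pullPushAdj f).rightAdjoint_preservesLimits
  have : PreservesFiniteLimits (EtCoh.push f) := PreservesLimitsOfSize.preservesFiniteLimits _
  obtain ⟨Δ⟩ := RD97.nonempty_derivedLES (EtCoh.push f)
  intro q
  induction q with
  | zero =>
    intro F hF
    have hS := injSeq_shortExact F
    have hS' := shortExact_push f hS hF
    have hI : Injective (injSeq F).X₂ := inferInstanceAs (Injective (Injective.under F))
    have hz := (EtCoh.push f).isZero_rightDerived_obj_injective_succ 0 (injSeq F).X₂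
    have he : Epi (((EtCoh.push f).rightDerived 0).map (injSeq F).g) := by
      have hn := (EtCoh.push f).rightDerivedZeroIsoSelf.hom.naturality (injSeq F).g
      have : Epi ((EtCoh.push f).map (injSeq F).g) := hS'.epi_g
      rw [← cancel_mono ((EtCoh.push f).rightDerivedZeroIsoSelf.inv.app (injSeq F).X₃), Category.assoc,
        Iso.hom_inv_id_app, Category.comp_id] at hn
      rw [hn]
      infer_instance
    refine (Δ.exact₁ (injSeq F) hS 0 1 rfl).isZero_X₂ ?_ (hz.eq_of_tgt _ _)
    rw [← cancel_epi (((EtCoh.push f).rightDerived 0).map (injSeq F).g), comp_zero]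
    exact Δ.comp_δ (injSeq F) hS 0 1 rfl
  | succ q ih =>
    intro F hF
    have hS := injSeq_shortExact F
    have hI : Injective (injSeq F).X₂ := inferInstanceAs (Injective (Injective.under F))
    refine (Δ.exact₁ (injSeq F) hS (q + 1) (q + 2) rfl).isZero_X₂
      ((ih _ (qAcyclic_quot hS hF (qAcyclic_of_isAcyclicEt (isAcyclicEt_injective _)))).eq_of_src _ _)
      (((EtCoh.push f).isZero_rightDerived_obj_injective_succ (q + 1) (injSeq F).X₂).eq_of_tgt _ _)

theorem isTorsion_push {F : EtCoh.Ab X} (hF : EtCoh.IsTorsion F) : EtCoh.IsTorsion ((EtCoh.push f).obj F) := by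
  have : PreservesLimitsOfSize.{0, 0} (EtCoh.push f) := (EtCoh.pullPushAdj f).rightAdjoint_preservesLimits
  have : PreservesFiniteLimits (EtCoh.push f) := PreservesLimitsOfSize.preservesFiniteLimits _
  exact Cons51.isTorsion_of_epi ((EtCoh.push f).rightDerivedZeroIsoSelf.hom.app F) (S0125.result f F hF 0)

end Groth.Agent.PBC51
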